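import Cfsg.Agent.Lib.G24.Rep

/-!
Extensions `(2^12)^k : G₂(4)` have the prime graph of `G₂(4)`.
-/

set_option autoImplicit false
set_option linter.unusedSectionVars false
set_option linter.unusedSimpArgs false
set_option linter.unreachableTactic false
set_option linter.unusedTactic false
set_option linter.style.haveILetI false
set_option maxHeartbeats 1000000

namespace CfsgLib.G24

open Cfsg.Lie

variable {F : Type*} [Field F] [CharP F 2]

theorem form_stRep (g : chevG2.SteinbergGroup F) (x y : Fin 6 → F) :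
    form (stRep g x) (stRep g y) = form x y := by
  let S : Subgroup ((Fin 6 → F) ≃ₗ[F] (Fin 6 → F)) :=
    { carrier := {f | ∀ x y, form (f x) (f y) = form x y}
      mul_mem' := fun {f g} hf hg x y => (hf (g x) (g y)).trans (hg x y)
      one_mem' := fun x y => rfl
      inv_mem' := fun {f} hf x y => by
        have := hf (f⁻¹ x) (f⁻¹ y)
        simp [← LinearEquiv.mul_apply] at this
        exact this.symm }
  suffices h : (⊤ : Subgroup (chevG2.SteinbergGroup F)) ≤ S.comap stRep from
    h (Subgroup.mem_top g) x y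
  rw [← PresentedGroup.closure_range_of, Subgroup.closure_le]
  rintro _ ⟨⟨r, t⟩, rfl⟩ a b
  simp only [stRep, PresentedGroup.toGroup.of]
  exact form_mv _ t a b

/-- The symplectic representation of the matrix group. -/
theorem exists_rep (hF : ∃ a : F, a ≠ 0 ∧ a ≠ 1) :
    ∃ ρ : ↥(chevG2.group F) →* ((Fin 6 → F) ≃ₗ[F] (Fin 6 → F)), Function.Injective ρ ∧
      (∀ g x y, form (ρ g x) (ρ g y) = form x y) ∧
      ∀ (r : Fin 12) (t : F), ∃ g, ρ g = X r t := by
  obtain ⟨θ, hs, hk, -⟩ := Cfsg.Agent.S1077.result (K := F) chevG2 (by simp)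
  rw [Cfsg.Agent.S1078.result chevG2 (by simp)] at hk
  let e := MulEquiv.ofBijective θ ⟨(MonoidHom.ker_eq_bot_iff θ).mp hk, hs⟩
  let ρ : ↥(chevG2.group F) →* ((Fin 6 → F) ≃ₗ[F] (Fin 6 → F)) := stRep.comp e.symm.toMonoidHom
  have hgen : ∀ (r : Fin 12) (t : F), ρ (e (chevG2.stGen F r t)) = X r t := fun r t => by
    simp [ρ, stRep_gen]
  refine ⟨ρ, ?_, fun g => form_stRep (e.symm g), fun r t => ⟨_, hgen r t⟩⟩
  haveI := (Cfsg.Agent.S1055.result hF).1
  rcases ρ.normal_ker.eq_bot_or_eq_top with h | h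
  · exact (MonoidHom.ker_eq_bot_iff ρ).mp h
  · exfalso
    have h1 : ρ (e (chevG2.stGen F (11 : Fin 12) 1)) = 1 := by
      rw [← MonoidHom.mem_ker, h]; exact Subgroup.mem_top _
    rw [hgen] at h1
    have h2 := congrFun (DFunLike.congr_fun h1 (Pi.single 0 1)) 4
    simp [X_apply, mv] at h2

theorem form_add_right (x y z : Fin 6 → F) : form x (y + z) = form x y + form x z := by
  simp [form]; ring

theorem form_smul_right (c : F) (x y : Fin 6 → F) : form x (c • y) = c * form x y := by
  simp [form]; ring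

theorem form_zero_right (x : Fin 6 → F) : form x 0 = 0 := by simp [form]

theorem form_comm (x y : Fin 6 → F) : form x y = form y x := by simp [form]; ring

theorem form_self (x : Fin 6 → F) : form x x = 0 := by
  simp [form]; ring_nf; simp [two0]

/-- The form as a linear map in the second variable. -/
def formR (x : Fin 6 → F) : (Fin 6 → F) →ₗ[F] F where
  toFun := form x
  map_add' := form_add_right x
  map_smul' c y := form_smul_right c x y

theorem exists_form_ne (w : Fin 6 → F) (hw : w ≠ 0) : ∃ z, form w z ≠ 0 := by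
  by_contra! h
  apply hw
  funext i
  have := h (Pi.single (5 - i) 1)
  fin_cases i <;> simpa [form] using this

/-- The projection orthogonal to a hyperbolic pair. -/
theorem proj {w y a : Fin 6 → F} (hwy : form w y = 1) :
    form w (a + form a y • w + form a w • y) = 0 ∧
      form y (a + form a y • w + form a w • y) = 0 := by
  constructor
  · rw [form_add_right, form_add_right, form_smul_right, form_smul_right, form_self, hwy,
      form_comm w a]
    simp [CharTwo.add_self_eq_zero]
  · rw [form_add_right, form_add_right, form_smul_right, form_smul_right, form_self,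
      form_comm y w, hwy, form_comm y a]
    simp [CharTwo.add_self_eq_zero]

/-- A subspace on which the form is non-degenerate does not have dimension three. -/
theorem finrank_ne_three (W : Submodule F (Fin 6 → F))
    (hnd : ∀ w ∈ W, w ≠ 0 → ∃ y ∈ W, form w y = 1) : Module.finrank F W ≠ 3 := by
  intro hd
  obtain ⟨w, hw, hw0⟩ := W.ne_bot_iff.mp (fun h => by rw [h] at hd; simp at hd)
  obtain ⟨y, hy, hwy⟩ := hnd w hw hw0
  obtain ⟨a, ha, haS⟩ : ∃ a ∈ W, a ∉ Submodule.span F ({w, y} : Set (Fin 6 → F)) := by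
    classical
    by_contra! h
    have h1 := Submodule.finrank_mono (show W ≤ _ from h)
    have h2 := finrank_span_le_card (R := F) ({w, y} : Set (Fin 6 → F))
    have h3 : ({w, y} : Set (Fin 6 → F)).toFinset.card ≤ 2 := by
      simp only [Set.toFinset_insert, Set.toFinset_singleton]
      exact Finset.card_le_two
    omega
  set z := a + form a y • w + form a w • y with hz
  have hzW : z ∈ W := W.add_mem (W.add_mem ha (W.smul_mem _ hw)) (W.smul_mem _ hy)
  have hz0 : z ≠ 0 := by
    intro h
    apply haS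
    rw [Submodule.mem_span_pair]
    refine ⟨-form a y, -form a w, ?_⟩
    rw [eq_comm, ← sub_eq_zero, ← h, hz]
    simp only [neg_smul]
    abel
  obtain ⟨c, hc, hzc⟩ := hnd z hzW hz0
  set d := c + form c y • w + form c w • y with hd'
  have hdW : d ∈ W := W.add_mem (W.add_mem hc (W.smul_mem _ hw)) (W.smul_mem _ hy)
  have hwz : form w z = 0 := (proj (a := a) hwy).1
  have hyz : form y z = 0 := (proj (a := a) hwy).2
  have hwd : form w d = 0 := (proj (a := c) hwy).1
  have hyd : form y d = 0 := (proj (a := c) hwy).2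
  have hzd : form z d = 1 := by
    rw [hd', form_add_right, form_add_right, form_smul_right, form_smul_right, form_comm z w, hwz,
      form_comm z y, hyz, hzc]
    simp
  have hyw : form y w = 1 := (form_comm y w).trans hwy
  have hli : LinearIndependent F ![w, y, z, d] := by
    rw [Fintype.linearIndependent_iff]
    intro g hg
    simp [Fin.sum_univ_four] at hg
    have k0 := congrArg (form y) hg
    have k1 := congrArg (form w) hg
    have k2 := congrArg (form d) hg
    have k3 := congrArg (form z) hg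
    simp only [form_add_right, form_smul_right, form_self, form_zero_right,
      (form_comm d w).trans hwd, (form_comm d y).trans hyd, (form_comm d z).trans hzd,
      (form_comm z w).trans hwz, (form_comm z y).trans hyz, hwy, hyw, hwz, hyz, hwd, hyd, hzd,
      mul_one, mul_zero, add_zero, zero_add] at k0 k1 k2 k3
    intro i
    fin_cases i <;> assumption
  have hmem : ∀ i : Fin 4, ![w, y, z, d] i ∈ W := fun i => by fin_cases i <;> assumption
  have hli' : LinearIndependent F (fun i : Fin 4 => (⟨![w, y, z, d] i, hmem i⟩ : W)) :=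
    LinearIndependent.of_comp W.subtype hli
  have := hli'.fintype_card_le_finrank
  simp at this
  omega

theorem exists_ne_zero_one [Fintype F] (hF : Fintype.card F = 4) :
    ∃ w : F, w ≠ 0 ∧ w ≠ 1 := by
  classical
  by_contra! h
  have h1 : Finset.univ ⊆ ({0, 1} : Finset F) := fun x _ => by
    by_cases h0 : x = 0
    · simp [h0]
    · simp [h x h0]
  have h2 := Finset.card_le_card h1
  rw [Finset.card_univ, hF] at h2
  have h3 : ({0, 1} : Finset F).card ≤ 2 := Finset.card_le_two
  omega

/-- The dimensions of fixed spaces of elements of order 7 or 13. -/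
theorem dim_cases {q d : ℕ} (hq : q = 7 ∨ q = 13) (hd : d ≤ 6) (h0 : d ≠ 0) (h6 : d ≠ 6)
    (hmod : 4 ^ 6 ≡ 4 ^ d [MOD q]) : q = 7 ∧ d = 3 := by
  rcases hq with rfl | rfl <;> interval_cases d <;> simp [Nat.ModEq] at hmod h0 h6 ⊢

/-- Elements of order 7 and 13 fix no nonzero vector. -/
theorem fpf [Fintype F] (hF : Fintype.card F = 4)
    {ρ : ↥(chevG2.group F) →* ((Fin 6 → F) ≃ₗ[F] (Fin 6 → F))}
    (hρ : Function.Injective ρ) (hform : ∀ g x y, form (ρ g x) (ρ g y) = form x y)
    (g : ↥(chevG2.group F)) (q : ℕ) (hq : q = 7 ∨ q = 13) (hg : orderOf g = q)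
    (v : Fin 6 → F) (hv : ρ g v = v) : v = 0 := by
  have hqp : q.Prime := by rcases hq with rfl | rfl <;> norm_num
  haveI := Fact.mk hqp
  by_contra hv0
  set f := ρ g with hf
  have hfo : orderOf f = q := by rw [hf, orderOf_injective ρ hρ, hg]
  let W : Submodule F (Fin 6 → F) := LinearMap.eqLocus f.toLinearMap LinearMap.id
  have hW : ∀ x, x ∈ W ↔ f x = x := fun x => Iff.rfl
  have hpg : IsPGroup q (Subgroup.zpowers f) :=
    IsPGroup.of_card (n := 1) (by rw [Nat.card_zpowers, hfo, pow_one])
  have hmod := hpg.card_modEq_card_fixedPoints (Fin 6 → F)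
  have hfix : Nat.card (MulAction.fixedPoints (Subgroup.zpowers f) (Fin 6 → F)) = Nat.card W := by
    refine Nat.card_congr (Equiv.subtypeEquivRight fun x =>
      ⟨fun h => h ⟨f, Subgroup.mem_zpowers f⟩, fun h k => ?_⟩)
    exact (Subgroup.zpowers_le.mpr (show f ∈ MulAction.stabilizer _ x from h) k.2 :)
  rw [hfix, Module.natCard_eq_pow_finrank (K := F) (V := W), Nat.card_eq_fintype_card,
    Nat.card_eq_fintype_card, Fintype.card_fun, Fintype.card_fin, hF] at hmod
  have hd6 : Module.finrank F W ≤ 6 := (Submodule.finrank_le W).trans (by simp)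
  have hd0 : Module.finrank F W ≠ 0 := fun h => hv0 (by
    have hbot : W = ⊥ := Submodule.finrank_eq_zero.mp h
    have := (hW v).mpr hv
    rw [hbot] at this
    simpa using this)
  have hdlt : Module.finrank F W ≠ 6 := fun h => by
    have htop : W = ⊤ := Submodule.eq_top_of_finrank_eq (by simp [h])
    have : f = 1 := LinearEquiv.ext fun x => (hW x).mp (by rw [htop]; exact Submodule.mem_top)
    rw [this, orderOf_one] at hfo
    exact hqp.ne_one hfo.symm
  obtain ⟨hq7, hd⟩ := dim_cases hq hd6 hd0 hdlt hmod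
  refine finrank_ne_three W (fun w hw hw0 => ?_) hd
  obtain ⟨z, hz⟩ := exists_form_ne w hw0
  set y := ∑ i ∈ Finset.range 7, (f ^ i) z with hy
  have h7 : f ^ 7 = 1 := by rw [← hq7, ← hfo, pow_orderOf_eq_one]
  have hfy : y ∈ W := by
    rw [hW, hy, map_sum]
    simp only [← LinearEquiv.mul_apply, ← pow_succ']
    rw [Finset.sum_range_succ (fun i => (f ^ (i + 1)) z) 6,
      Finset.sum_range_succ' (fun i => (f ^ i) z) 6]
    simp [h7]
  have hi : ∀ i : ℕ, form w ((f ^ i) z) = form w z := by
    intro i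
    induction i with
    | zero => rfl
    | succ i ih =>
      rw [pow_succ', LinearEquiv.mul_apply]
      conv_lhs => rw [← (hW w).mp hw, hf, hform g]
      exact ih
  have hfy' : form w y = form w z := by
    show formR w y = _
    rw [hy, map_sum, Finset.sum_congr rfl fun i _ => (show formR w ((f ^ i) z) = form w z from hi i)]
    simp only [Finset.sum_const, Finset.card_range, nsmul_eq_mul]
    rw [show ((7 : ℕ) : F) = 1 by push_cast; linear_combination (3 : F) * two0 (F := F), one_mul]
  exact ⟨(form w z)⁻¹ • y, W.smul_mem _ hfy, by rw [form_smul_right, hfy', inv_mul_cancel₀ hz]⟩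

theorem X_sq (r : ℕ) (t : F) : X r t ^ 2 = 1 := by
  rw [pow_two]
  exact inv_eq_iff_mul_eq_one.mp (X_inv r t)

/-- Elements of order six and ten. -/
theorem witnesses [Fintype F] (hF : Fintype.card F = 4)
    {ρ : ↥(chevG2.group F) →* ((Fin 6 → F) ≃ₗ[F] (Fin 6 → F))}
    (hρ : Function.Injective ρ) (hgen : ∀ (r : Fin 12) (t : F), ∃ g, ρ g = X r t) :
    (∃ g : ↥(chevG2.group F), orderOf g = 6) ∧ ∃ g : ↥(chevG2.group F), orderOf g = 10 := by
  obtain ⟨w, hw0, hw1⟩ := exists_ne_zero_one hF
  have hw2 : w ^ 2 = w + 1 := by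
    have h3 : w ^ 3 = 1 := by
      have := FiniteField.pow_card_sub_one_eq_one w hw0
      rwa [hF] at this
    have : (w - 1) * (w ^ 2 + w + 1) = 0 := by linear_combination h3
    rcases mul_eq_zero.mp this with h | h
    · exact absurd (sub_eq_zero.mp h) hw1
    · linear_combination h - (w + 1) * two0 (F := F)
  obtain ⟨a, ha⟩ := hgen 11 1
  obtain ⟨b, hb⟩ := hgen 7 1
  obtain ⟨b', hb'⟩ := hgen 7 w
  obtain ⟨c, hc⟩ := hgen 4 1
  have ha2 : orderOf a = 2 := by
    refine orderOf_eq_prime (hρ (by rw [map_pow, map_one, ha]; exact X_sq _ _)) fun h => ?_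
    have h1 : X ((11 : Fin 12) : ℕ) (1 : F) = 1 := by rw [← ha, h, map_one]
    have h2 := congrFun (DFunLike.congr_fun h1 (Pi.single 0 1)) 4
    simp [X_apply, mv] at h2
  have hcomm : ∀ t : F, X 11 (1 : F) * (X 7 t * X 4 1) = X 7 t * X 4 1 * X 11 1 := fun t => by
    refine LinearEquiv.ext fun v => funext fun i => ?_
    fin_cases i <;> simp [LinearEquiv.mul_apply, X_apply, mv] <;> ring_nf <;>
      simp [two0, four0, three1]
  have hne : ∀ t : F, t ≠ 0 → X 7 t * X 4 (1 : F) ≠ 1 := fun t ht h => by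
    have h2 := congrFun (DFunLike.congr_fun h (Pi.single 0 1)) 1
    simp [LinearEquiv.mul_apply, X_apply, mv] at h2
    exact ht h2
  have h3 : (X 7 (1 : F) * X 4 1) ^ 3 = 1 := by
    refine LinearEquiv.ext fun v => funext fun i => ?_
    fin_cases i <;> simp [pow_succ, LinearEquiv.mul_apply, X_apply, mv] <;> ring_nf <;>
      (try simp [two0, four0, three1, six0, five1]) <;> grind
  have h5 : (X 7 w * X 4 (1 : F)) ^ 5 = 1 := by
    refine LinearEquiv.ext fun v => funext fun i => ?_
    fin_cases i <;> simp [pow_succ, LinearEquiv.mul_apply, X_apply, mv] <;> grind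
  constructor
  · refine ⟨a * (b * c), ?_⟩
    have hbc : orderOf (b * c) = 3 := by
      haveI := Fact.mk (by norm_num : (3 : ℕ).Prime)
      refine orderOf_eq_prime (hρ ?_) fun h => ?_
      · rw [map_pow, map_mul, map_one, hb, hc]; exact h3
      · refine hne 1 one_ne_zero ?_
        have := congrArg ρ h
        rw [map_mul, map_one, hb, hc] at this
        exact this
    rw [Commute.orderOf_mul_eq_mul_orderOf_of_coprime (hρ (by
        rw [map_mul, map_mul ρ (b * c), map_mul ρ b, ha, hb, hc]; exact hcomm 1))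
      (by rw [ha2, hbc]; norm_num), ha2, hbc]
  · refine ⟨a * (b' * c), ?_⟩
    have hbc : orderOf (b' * c) = 5 := by
      haveI := Fact.mk (by norm_num : (5 : ℕ).Prime)
      refine orderOf_eq_prime (hρ ?_) fun h => ?_
      · rw [map_pow, map_mul, map_one, hb', hc]; exact h5
      · refine hne w hw0 ?_
        have := congrArg ρ h
        rw [map_mul, map_one, hb', hc] at this
        exact this
    rw [Commute.orderOf_mul_eq_mul_orderOf_of_coprime (hρ (by
        rw [map_mul, map_mul ρ (b' * c), map_mul ρ b', ha, hb', hc]; exact hcomm w))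
      (by rw [ha2, hbc]; norm_num), ha2, hbc]

/-- Copies of the module. -/
noncomputable def pAct (ρ : ↥(chevG2.group F) →* ((Fin 6 → F) ≃ₗ[F] (Fin 6 → F))) (k : ℕ) :
    ↥(chevG2.group F) →* MulAut (Multiplicative (Fin k → Fin 6 → F)) where
  toFun g := AddEquiv.toMultiplicative (AddEquiv.piCongrRight fun _ => (ρ g).toAddEquiv)
  map_one' := MulEquiv.ext fun v => by simp; rfl
  map_mul' g h := MulEquiv.ext fun v => by simp; rfl

theorem pAct_apply (ρ : ↥(chevG2.group F) →* ((Fin 6 → F) ≃ₗ[F] (Fin 6 → F))) (k : ℕ)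
    (g : ↥(chevG2.group F)) (v : Multiplicative (Fin k → Fin 6 → F)) (i : Fin k) :
    Multiplicative.toAdd (pAct ρ k g v) i = ρ g (Multiplicative.toAdd v i) := rfl

theorem pow_right' {A B : Type*} [Group A] [Group B] {φ : B →* MulAut A} (x : A ⋊[φ] B) (n : ℕ) :
    (x ^ n).right = x.right ^ n :=
  map_pow (SemidirectProduct.rightHom (φ := φ)) x n

/-- A bare carrier of a given size. -/
def Carrier (n : ℕ) : Type := Fin n

/-- Arbitrarily large groups with the prime graph of `G₂(4)`. -/
theorem exists_large [Fintype F] (hF : Fintype.card F = 4) (N : ℕ) :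
    ∃ (H : Type) (_ : Group H) (_ : Finite H), N < Nat.card H ∧
      ((∀ p : ℕ, p.Prime → (p ∣ Nat.card ↥(chevG2.group F) ↔ p ∣ Nat.card H)) ∧
      (∀ p q : ℕ, p.Prime → q.Prime → p ≠ q →
        ((∃ g : ↥(chevG2.group F), orderOf g = p * q) ↔ (∃ g : H, orderOf g = p * q)))) := by
  obtain ⟨ρ, hρ, hform, hgen⟩ := exists_rep (exists_ne_zero_one hF)
  obtain ⟨⟨g6, hg6⟩, ⟨g10, hg10⟩⟩ := witnesses hF hρ hgen
  let H := Multiplicative (Fin (N + 1) → Fin 6 → F) ⋊[pAct ρ (N + 1)] ↥(chevG2.group F)
  have hcardH : Nat.card H = 4 ^ (6 * (N + 1)) * Nat.card ↥(chevG2.group F) := by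
    show Nat.card (_ ⋊[pAct ρ (N + 1)] _) = _
    rw [SemidirectProduct.card]
    congr 1
    rw [Nat.card_eq_fintype_card, Fintype.card_multiplicative, Fintype.card_fun, Fintype.card_fun,
      Fintype.card_fin, Fintype.card_fin, hF, ← pow_mul]
  haveI : Finite H := Finite.of_equiv _ SemidirectProduct.equivProd.symm
  let ε : Carrier (Nat.card H) ≃ H := (Finite.equivFin H).symm
  refine ⟨Carrier (Nat.card H), ε.group, inferInstanceAs (Finite (Fin (Nat.card H))), ?_, ?_⟩
  · rw [Nat.card_congr ε, hcardH]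
    have h0 : 6 * (N + 1) < 4 ^ (6 * (N + 1)) := Nat.lt_pow_self (by norm_num)
    exact lt_of_lt_of_le (by omega) (Nat.le_mul_of_pos_right _ Nat.card_pos)
  letI := ε.group
  let e : Carrier (Nat.card H) ≃* H :=
    { toEquiv := ε
      map_mul' := fun a b => ε.apply_symm_apply (ε a * ε b) }
  have hiff : ∀ n : ℕ, (∃ x : Carrier (Nat.card H), orderOf x = n) ↔ ∃ x : H, orderOf x = n :=
    fun n => ⟨fun ⟨x, hx⟩ => ⟨e x, by rw [MulEquiv.orderOf_eq, hx]⟩,
      fun ⟨x, hx⟩ => ⟨e.symm x, by rw [MulEquiv.orderOf_eq, hx]⟩⟩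
  simp only [hiff, Nat.card_congr ε]
  have hG : Nat.card ↥(chevG2.group F) = 2 ^ 12 * 3 ^ 3 * 5 ^ 2 * 7 * 13 :=
    (Cfsg.Agent.S1059.result hF).trans (by norm_num)
  have hprimes : ∀ p : ℕ, p.Prime → p ∣ Nat.card ↥(chevG2.group F) →
      p = 2 ∨ p = 3 ∨ p = 5 ∨ p = 7 ∨ p = 13 := by
    intro p hp h
    rw [hG] at h
    have hpr : ∀ a k : ℕ, a.Prime → p ∣ a ^ k → p = a := fun a k ha h =>
      (Nat.prime_dvd_prime_iff_eq hp ha).mp (hp.dvd_of_dvd_pow h)
    rcases (Nat.Prime.dvd_mul hp).mp h with h | h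
    rcases (Nat.Prime.dvd_mul hp).mp h with h | h
    rcases (Nat.Prime.dvd_mul hp).mp h with h | h
    rcases (Nat.Prime.dvd_mul hp).mp h with h | h
    · exact Or.inl (hpr 2 _ Nat.prime_two h)
    · exact Or.inr (Or.inl (hpr 3 _ Nat.prime_three h))
    · exact Or.inr (Or.inr (Or.inl (hpr 5 _ (by norm_num) h)))
    · exact Or.inr (Or.inr (Or.inr (Or.inl ((Nat.prime_dvd_prime_iff_eq hp (by norm_num)).mp h))))
    · exact Or.inr (Or.inr (Or.inr (Or.inr ((Nat.prime_dvd_prime_iff_eq hp (by norm_num)).mp h))))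
  have h2G : 2 ∣ Nat.card ↥(chevG2.group F) := hG ▸ by norm_num
  constructor
  · intro p hp
    refine ⟨fun h => hcardH ▸ dvd_mul_of_dvd_right h _, fun h => ?_⟩
    rw [hcardH] at h
    rcases (Nat.Prime.dvd_mul hp).mp h with h | h
    · have h4 : p ∣ 2 ^ 2 := by simpa using hp.dvd_of_dvd_pow h
      rwa [(Nat.prime_dvd_prime_iff_eq hp Nat.prime_two).mp (hp.dvd_of_dvd_pow h4)]
    · exact h
  intro p q hp hq hpq
  refine ⟨fun ⟨g, hg⟩ => ⟨(SemidirectProduct.inr g : H), by
    rw [orderOf_injective _ SemidirectProduct.inr_injective, hg]⟩, fun ⟨x, hx⟩ => ?_⟩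
  have hoV : ∀ v : Multiplicative (Fin (N + 1) → Fin 6 → F), v ^ 2 = 1 := fun v => by
    apply Multiplicative.toAdd.injective
    funext i j
    simp [two0]
  have ho : orderOf x.right ∣ p * q := hx ▸ orderOf_map_dvd (SemidirectProduct.rightHom) x
  have hker : x ^ orderOf x.right = SemidirectProduct.inl (x ^ orderOf x.right).left :=
    SemidirectProduct.ext (by simp) (by rw [pow_right', pow_orderOf_eq_one]; simp)
  have ho2 : p * q ∣ orderOf x.right * 2 := by
    rw [← hx]
    refine orderOf_dvd_of_pow_eq_one ?_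
    rw [pow_mul, hker, ← map_pow, hoV, map_one]
  by_cases ho' : orderOf x.right = p * q
  · exact ⟨_, ho'⟩
  suffices main : ∀ r : ℕ, r.Prime → p * q = 2 * r → r ≠ 2 →
      ∃ g : ↥(chevG2.group F), orderOf g = p * q by
    have h2 : 2 ∣ p * q := by
      by_contra h2
      have hc : (p * q).Coprime 2 := (Nat.prime_two.coprime_iff_not_dvd.mpr h2).symm
      exact ho' (Nat.dvd_antisymm ho (hc.dvd_of_dvd_mul_right ho2))
    rcases (Nat.Prime.dvd_mul Nat.prime_two).mp h2 with h | h
    · have := (Nat.prime_dvd_prime_iff_eq Nat.prime_two hp).mp h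
      exact main q hq (by rw [this]) (by omega)
    · have := (Nat.prime_dvd_prime_iff_eq Nat.prime_two hq).mp h
      exact main p hp (by rw [← this, mul_comm]) (by omega)
  intro r hr hpr hr2
  rw [hpr] at ho ho2 ho' hx ⊢
  have hor : orderOf x.right = r := by
    obtain ⟨c, hc⟩ : r ∣ orderOf x.right := by
      have : r ∣ orderOf x.right * 2 := (dvd_mul_left r 2).trans ho2
      exact ((Nat.coprime_primes hr Nat.prime_two).mpr hr2).dvd_of_dvd_mul_right this
    rw [hc] at ho ho' ⊢
    rw [mul_comm 2 r] at ho ho'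
    rcases (Nat.dvd_prime Nat.prime_two).mp (Nat.dvd_of_mul_dvd_mul_left hr.pos ho) with h | h
    · rw [h, mul_one]
    · exact absurd (by rw [h]) ho'
  have hz : (x ^ r).right = 1 := by rw [pow_right', ← hor, pow_orderOf_eq_one]
  have hz1 : (x ^ r).left ≠ 1 := fun h => by
    have h1 : x ^ r = 1 := SemidirectProduct.ext h hz
    have := Nat.le_of_dvd hr.pos (hx ▸ orderOf_dvd_of_pow_eq_one h1)
    have := hr.pos
    omega
  set v := (x ^ r).left with hv
  have hfix : pAct ρ (N + 1) x.right v = v := by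
    have h := congrArg SemidirectProduct.left ((Commute.self_pow x r).eq)
    rw [show (x * x ^ r).left = x.left * pAct ρ (N + 1) x.right (x ^ r).left from
        SemidirectProduct.mul_left x (x ^ r),
      show (x ^ r * x).left = (x ^ r).left * pAct ρ (N + 1) (x ^ r).right x.left from
        SemidirectProduct.mul_left (x ^ r) x, hz, map_one, MulAut.one_apply, ← hv] at h
    rw [mul_comm v] at h
    exact mul_left_cancel h
  obtain ⟨i, hi⟩ : ∃ i, Multiplicative.toAdd v i ≠ 0 := by
    by_contra! h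
    exact hz1 (Multiplicative.toAdd.injective (funext h))
  have hfi : ρ x.right (Multiplicative.toAdd v i) = Multiplicative.toAdd v i := by
    rw [← pAct_apply, hfix]
  rcases hprimes r hr (hor ▸ orderOf_dvd_natCard x.right) with rfl | rfl | rfl | rfl | rfl
  · exact absurd rfl hr2
  · exact ⟨g6, hg6⟩
  · exact ⟨g10, hg10⟩
  · exact absurd (fpf hF hρ hform x.right 7 (Or.inl rfl) hor _ hfi) hi
  · exact absurd (fpf hF hρ hform x.right 13 (Or.inr rfl) hor _ hfi) hi

end CfsgLib.G24
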