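import Cfsg.Agent.S1055
import Cfsg.Agent.S1059
import Cfsg.Agent.S1077
import Cfsg.Agent.S1078

/-!
The six-dimensional symplectic representation of `G₂(F)` in characteristic two, constructed from
Steinberg's presentation.
-/

set_option autoImplicit false
set_option maxRecDepth 10000
set_option linter.unusedSectionVars false
set_option linter.unusedSimpArgs false
set_option maxHeartbeats 4000000

namespace CfsgLib.G24

open Cfsg.Lie

variable {F : Type*} [Field F]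

/-- A root element on the six short root weights. -/
def mv (r : ℕ) (t : F) (v : Fin 6 → F) : Fin 6 → F :=
  match r with
  | 0 => ![v 0 + t * v 4, v 1 + t * v 5, v 2, v 3, v 4, v 5]
  | 1 => ![v 0 + t * v 3, v 1, v 2 + t * v 5, v 3, v 4, v 5]
  | 2 => ![v 0 + t * t * v 5, v 1 + t * v 3, v 2 + t * v 4, v 3, v 4, v 5]
  | 3 => ![v 0 + t * v 2, v 1 + t * t * v 4, v 2, v 3 + t * v 5, v 4, v 5]
  | 4 => ![v 0 + t * v 1, v 1, v 2 + t * t * v 3, v 3, v 4 + t * v 5, v 5]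
  | 5 => ![v 0, v 1 + t * v 2, v 2, v 3 + t * v 4, v 4, v 5]
  | 6 => ![v 0, v 1, v 2 + t * v 1, v 3, v 4 + t * v 3, v 5]
  | 7 => ![v 0, v 1 + t * v 0, v 2, v 3 + t * t * v 2, v 4, v 5 + t * v 4]
  | 8 => ![v 0, v 1, v 2 + t * v 0, v 3, v 4 + t * t * v 1, v 5 + t * v 3]
  | 9 => ![v 0, v 1, v 2, v 3 + t * v 1, v 4 + t * v 2, v 5 + t * t * v 0]
  | 10 => ![v 0, v 1, v 2, v 3 + t * v 0, v 4, v 5 + t * v 2]
  | 11 => ![v 0, v 1, v 2, v 3, v 4 + t * v 0, v 5 + t * v 1]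
  | _ => v

/-- The exponents of the diagonal elements. -/
def hExp (r : ℕ) : Fin 6 → ℤ :=
  match r with
  | 0 => ![1, 1, 0, 0, (-1), (-1)]
  | 1 => ![1, 0, 1, (-1), 0, (-1)]
  | 2 => ![2, 1, 1, (-1), (-1), (-2)]
  | 3 => ![1, 2, (-1), 1, (-2), (-1)]
  | 4 => ![1, (-1), 2, (-2), 1, (-1)]
  | 5 => ![0, 1, (-1), 1, (-1), 0]
  | 6 => ![0, (-1), 1, (-1), 1, 0]
  | 7 => ![(-1), 1, (-2), 2, (-1), 1]
  | 8 => ![(-1), (-2), 1, (-1), 2, 1]
  | 9 => ![(-2), (-1), (-1), 1, 1, 2]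
  | 10 => ![(-1), 0, (-1), 1, 0, 1]
  | 11 => ![(-1), (-1), 0, 0, 1, 1]
  | _ => 0

/-- The terms of the commutator formula that survive in characteristic two. -/
def tbl : List (List (List (ℕ × ℤ × ℕ × ℕ))) :=
  [
   [[], [], [], [], [], [], [(1, 1, 1, 1)], [], [(2, 1, 1, 1), (4, 1, 1, 2), (6, -1, 1, 3), (1, -2, 2, 3)], [(3, -1, 1, 1), (7, -1, 1, 2), (10, -1, 1, 3), (5, 2, 2, 3)], [(5, -1, 1, 1)], []],
   [[], [], [], [], [], [(0, 1, 1, 1)], [], [(2, 1, 1, 1), (3, -1, 1, 2), (5, 1, 1, 3), (0, 2, 2, 3)], [], [(4, -1, 1, 1), (8, 1, 1, 2), (11, 1, 1, 3), (6, -2, 2, 3)], [], [(6, -1, 1, 1)]],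
   [[], [], [], [(0, 3, 1, 1)], [(1, 3, 1, 1)], [], [], [(3, -2, 1, 1), (0, -3, 2, 1), (5, 3, 1, 2)], [(4, 2, 1, 1), (1, 3, 2, 1), (6, -3, 1, 2)], [], [(7, -1, 1, 1), (3, 1, 2, 1), (0, 1, 3, 1), (5, 1, 3, 2)], [(8, -1, 1, 1), (4, -1, 2, 1), (1, -1, 3, 1), (6, -1, 3, 2)]],
   [[], [], [(0, -3, 1, 1)], [], [(2, -2, 1, 1), (0, 3, 2, 1), (1, -3, 1, 2)], [], [(4, 1, 1, 1), (2, -1, 2, 1), (0, 1, 3, 1), (1, -1, 3, 2)], [(5, -3, 1, 1)], [], [(7, 2, 1, 1), (5, -3, 2, 1), (10, 3, 1, 2)], [], [(9, 1, 1, 1), (7, 1, 2, 1), (5, -1, 3, 1), (10, 1, 3, 2)]],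
   [[], [], [(1, -3, 1, 1)], [(2, 2, 1, 1), (1, -3, 2, 1), (0, 3, 1, 2)], [], [(3, 1, 1, 1), (2, 1, 2, 1), (1, -1, 3, 1), (0, 1, 3, 2)], [], [], [(6, -3, 1, 1)], [(8, -2, 1, 1), (6, 3, 2, 1), (11, -3, 1, 2)], [(9, 1, 1, 1), (8, -1, 2, 1), (6, 1, 3, 1), (11, -1, 3, 2)], []],
   [[], [(0, -1, 1, 1)], [], [], [(3, -1, 1, 1), (2, 1, 1, 2), (1, 1, 1, 3), (0, -2, 2, 3)], [], [], [], [(7, 1, 1, 1), (9, -1, 1, 2), (11, 1, 1, 3), (10, 2, 2, 3)], [], [], [(10, 1, 1, 1)]],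
   [[(1, -1, 1, 1)], [], [], [(4, -1, 1, 1), (2, -1, 1, 2), (0, -1, 1, 3), (1, 2, 2, 3)], [], [], [], [(8, 1, 1, 1), (9, 1, 1, 2), (10, -1, 1, 3), (11, -2, 2, 3)], [], [], [(11, 1, 1, 1)], []],
   [[], [(2, -1, 1, 1), (3, -1, 2, 1), (5, -1, 3, 1), (0, -1, 3, 2)], [(3, 2, 1, 1), (5, 3, 2, 1), (0, -3, 1, 2)], [(5, 3, 1, 1)], [], [], [(8, -1, 1, 1), (9, 1, 2, 1), (10, 1, 3, 1), (11, 1, 3, 2)], [], [(9, -2, 1, 1), (10, -3, 2, 1), (11, 3, 1, 2)], [(10, 3, 1, 1)], [], []],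
   [[(2, -1, 1, 1), (4, 1, 2, 1), (6, 1, 3, 1), (1, 1, 3, 2)], [], [(4, -2, 1, 1), (6, -3, 2, 1), (1, 3, 1, 2)], [], [(6, 3, 1, 1)], [(7, -1, 1, 1), (9, -1, 2, 1), (11, -1, 3, 1), (10, -1, 3, 2)], [], [(9, 2, 1, 1), (11, 3, 2, 1), (10, -3, 1, 2)], [], [(11, 3, 1, 1)], [], []],
   [[(3, 1, 1, 1), (7, -1, 2, 1), (10, 1, 3, 1), (5, -1, 3, 2)], [(4, 1, 1, 1), (8, 1, 2, 1), (11, -1, 3, 1), (6, 1, 3, 2)], [], [(7, -2, 1, 1), (10, 3, 2, 1), (5, -3, 1, 2)], [(8, 2, 1, 1), (11, -3, 2, 1), (6, 3, 1, 2)], [], [], [(10, -3, 1, 1)], [(11, -3, 1, 1)], [], [], []],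
   [[(5, 1, 1, 1)], [], [(7, 1, 1, 1), (3, 1, 1, 2), (0, -1, 1, 3), (5, -2, 2, 3)], [], [(9, -1, 1, 1), (8, -1, 1, 2), (6, -1, 1, 3), (11, 2, 2, 3)], [], [(11, -1, 1, 1)], [], [], [], [], []],
   [[], [(6, 1, 1, 1)], [(8, 1, 1, 1), (4, -1, 1, 2), (1, 1, 1, 3), (6, 2, 2, 3)], [(9, -1, 1, 1), (7, 1, 1, 2), (5, 1, 1, 3), (10, -2, 2, 3)], [], [(10, -1, 1, 1)], [], [], [], [], [], []]]

/-- The root element as a linear map. -/
def lin (r : ℕ) (t : F) : (Fin 6 → F) →ₗ[F] (Fin 6 → F) where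
  toFun := mv r t
  map_add' x y := by
    funext i
    rcases r with _ | _ | _ | _ | _ | _ | _ | _ | _ | _ | _ | _ | r <;>
      fin_cases i <;> simp [mv] <;> ring
  map_smul' c x := by
    funext i
    rcases r with _ | _ | _ | _ | _ | _ | _ | _ | _ | _ | _ | _ | r <;>
      fin_cases i <;> simp [mv] <;> ring

/-- The invariant alternating form. -/
def form (x y : Fin 6 → F) : F :=
  x 0 * y 5 + x 5 * y 0 + x 1 * y 4 + x 4 * y 1 + x 2 * y 3 + x 3 * y 2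

variable [CharP F 2]

theorem two0 : (2 : F) = 0 := CharTwo.two_eq_zero

theorem four0 : (4 : F) = 0 := by linear_combination (2 : F) * two0 (F := F)

theorem three1 : (3 : F) = 1 := by linear_combination two0 (F := F)

theorem six0 : (6 : F) = 0 := by linear_combination (3 : F) * two0 (F := F)

theorem five1 : (5 : F) = 1 := by linear_combination (2 : F) * two0 (F := F)

theorem mv_mv (r : ℕ) (t u : F) (v : Fin 6 → F) : mv r t (mv r u v) = mv r (t + u) v := by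
  funext i
  rcases r with _ | _ | _ | _ | _ | _ | _ | _ | _ | _ | _ | _ | r
  all_goals fin_cases i
  all_goals simp [mv]
  all_goals ring_nf
  all_goals simp [two0, four0, three1]

theorem form_mv (r : ℕ) (t : F) (x y : Fin 6 → F) : form (mv r t x) (mv r t y) = form x y := by
  rcases r with _ | _ | _ | _ | _ | _ | _ | _ | _ | _ | _ | _ | r
  all_goals simp [mv, form]
  all_goals ring_nf
  all_goals simp [two0, four0, three1]

theorem mv_zero (r : ℕ) (v : Fin 6 → F) : mv r 0 v = v := by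
  funext i
  rcases r with _ | _ | _ | _ | _ | _ | _ | _ | _ | _ | _ | _ | r <;> fin_cases i <;> simp [mv]

/-- The root element. -/
noncomputable def X (r : ℕ) (t : F) : (Fin 6 → F) ≃ₗ[F] (Fin 6 → F) :=
  LinearEquiv.ofInvolutive (lin r t) fun v => by
    show mv r t (mv r t v) = v
    rw [mv_mv, CharTwo.add_self_eq_zero, mv_zero]

theorem X_apply (r : ℕ) (t : F) (v : Fin 6 → F) : X r t v = mv r t v := rfl

theorem X_inv (r : ℕ) (t : F) : (X r t)⁻¹ = X r t := by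
  apply inv_eq_of_mul_eq_one_right
  apply LinearEquiv.ext
  intro v
  show mv r t (mv r t v) = v
  rw [mv_mv, CharTwo.add_self_eq_zero, mv_zero]

theorem commTerms_eq : ∀ r s : Fin 12, s ≠ r → (s : ℕ) ≠ chevG2.neg r →
    chevG2.commTerms r s = (tbl.getD r []).getD s [] := by decide +kernel

theorem neg_eq : ∀ r : Fin 12, chevG2.neg r = 11 - (r : ℕ) := by decide +kernel

theorem comm (r s : Fin 12) (hne : s ≠ r) (hneg : (s : ℕ) ≠ chevG2.neg r) (t u : F) :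
    X s u * X r t * X s u * X r t =
      ((chevG2.commWord F r s t u).map fun p => X p.1 p.2).prod := by
  simp only [ChevalleyDatum.commWord, commTerms_eq r s hne hneg, List.map_map]
  rw [neg_eq] at hneg
  apply LinearEquiv.ext
  intro v
  fin_cases r <;> fin_cases s
  all_goals first
    | exact absurd rfl hne
    | exact absurd rfl hneg
    | (funext i
       simp [tbl, LinearEquiv.mul_apply, X_apply, mv, CharTwo.neg_eq, CharTwo.sub_eq_add]
       fin_cases i <;> simp <;> ring_nf <;> simp [two0, four0, three1, six0, five1, CharTwo.sub_eq_add, CharTwo.neg_eq])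

theorem hWord_eq (r : Fin 12) (t : F) (ht : t ≠ 0) (v : Fin 6 → F) :
    ((chevG2.hWord (r : ℕ) t).map fun p => X p.1 p.2).prod v = fun i => t ^ hExp r i * v i := by
  simp only [ChevalleyDatum.hWord, ChevalleyDatum.nWord, neg_eq]
  fin_cases r
  all_goals (funext i; simp [LinearEquiv.mul_apply, X_apply, mv, hExp, CharTwo.neg_eq]; fin_cases i)
  all_goals simp
  all_goals field_simp
  all_goals ring_nf
  all_goals simp [two0, four0, three1, six0, five1]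

theorem rels {g : FreeGroup (Fin chevG2.nroots × F)} (hg : g ∈ chevG2.steinbergRels F) :
    FreeGroup.lift (fun p : Fin chevG2.nroots × F => X p.1.val p.2) g = 1 := by
  set L := FreeGroup.lift (fun p : Fin chevG2.nroots × F => X p.1.val p.2)
  have hx : ∀ (r : ℕ) (t : F), r < chevG2.nroots → L (chevG2.stX r t) = X r t := fun r t hr => by
    simp [L, ChevalleyDatum.stX, hr]
  have hw : ∀ w : List (ℕ × F), (∀ p ∈ w, p.1 < chevG2.nroots) →
      L (chevG2.stWord w) = (w.map fun p => X p.1 p.2).prod := fun w hw => by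
    rw [ChevalleyDatum.stWord, map_list_prod, List.map_map]
    exact congrArg List.prod (List.map_congr_left fun p hp => hx _ _ (hw p hp))
  rcases hg with (⟨r, t₁, t₂, hr, rfl⟩ | ⟨r, s, t, u, hr, hs, hne, hneg, rfl⟩) | ⟨r, t₁, t₂, hr, h₁, h₂, rfl⟩
  · rw [map_mul, map_mul, map_inv, hx _ _ hr, hx _ _ hr, hx _ _ hr, mul_inv_eq_one]
    exact LinearEquiv.ext fun v => mv_mv r t₁ t₂ v
  · have hb : ∀ r s : Fin 12, ∀ c ∈ chevG2.commTerms r s, c.1 < 12 := by decide +kernel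
    rw [map_mul, map_mul, map_mul, map_mul, map_inv, map_inv, map_inv, hx _ _ hr, hx _ _ hs,
      X_inv, X_inv, mul_inv_eq_one, hw]
    · exact comm ⟨r, hr⟩ ⟨s, hs⟩ (by simpa [Fin.ext_iff] using hne) hneg t u
    · intro p hp
      simp only [ChevalleyDatum.commWord, List.mem_map] at hp
      obtain ⟨c, hc, rfl⟩ := hp
      exact hb ⟨r, hr⟩ ⟨s, hs⟩ c hc
  · have hb : ∀ (t : F), ∀ p ∈ chevG2.hWord r t, p.1 < chevG2.nroots := by
      intro t p hp
      have : chevG2.neg r < 12 := by rw [neg_eq ⟨r, hr⟩]; omega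
      simp [ChevalleyDatum.hWord, ChevalleyDatum.nWord] at hp
      rcases hp with rfl | rfl | rfl | rfl | rfl | rfl <;> first | exact hr | exact this
    simp only [map_mul, map_inv, ChevalleyDatum.stH]
    rw [hw _ (hb _), hw _ (hb _), hw _ (hb _), mul_inv_eq_one]
    refine LinearEquiv.ext fun v => ?_
    rw [LinearEquiv.mul_apply, hWord_eq ⟨r, hr⟩ _ h₂, hWord_eq ⟨r, hr⟩ _ h₁,
      hWord_eq ⟨r, hr⟩ _ (mul_ne_zero h₁ h₂)]
    funext i
    simp [mul_zpow, mul_assoc]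

/-- The representation of the presented group. -/
noncomputable def stRep : chevG2.SteinbergGroup F →* ((Fin 6 → F) ≃ₗ[F] (Fin 6 → F)) :=
  PresentedGroup.toGroup fun _ hg => rels hg

theorem stRep_gen (r : Fin 12) (t : F) : stRep (chevG2.stGen F r t) = X r t := by
  have : chevG2.stGen F (r : ℕ) t = PresentedGroup.of ((r, t) : Fin chevG2.nroots × F) := by
    simp [ChevalleyDatum.stGen, ChevalleyDatum.stX, PresentedGroup.of, chevG2]
  rw [this, stRep, PresentedGroup.toGroup.of]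

end CfsgLib.G24
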